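import Groth.Agent.LeffPicLib.Step
import Groth.Agent.PicH1Lib.Lift
import Groth.Agent.FComplLib.Basic
import Groth.Agent.CurvLib.Line
import Groth.Agent.SerreVanLib.Main
import Groth.Agent.S0012
import Groth.Agent.ExtShLib.DivExt

/-!
# The tower of thickenings of a closed subscheme
-/

set_option autoImplicit false
set_option linter.style.haveILetI false
universe u

open CategoryTheory CategoryTheory.Limits AlgebraicGeometry TopologicalSpace Opposite
open Scheme.IdealSheafData (inclusion inclusion_subschemeι)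
open KFlatLib (pb)

noncomputable section

namespace LeffPicLib

variable {X : Scheme.{u}}

theorem unitToPush_comp {Z W T : Scheme.{u}} (t : Z ⟶ W) (j : W ⟶ T) :
    ClSub.unitToPush (t ≫ j) = ClSub.unitToPush j ≫
      (Scheme.Modules.pushforward j).map (ClSub.unitToPush t) ≫
        (Scheme.Modules.pushforwardComp t j).hom.app (Coh.structureModule Z) :=
  Scheme.Modules.hom_ext _ _ fun V => ConcreteCategory.hom_ext _ _ fun (r : Γ(T, V)) =>
    (ConcreteCategory.congr_hom (Scheme.Hom.comp_app t j V) r).trans (CommRingCat.comp_apply _ _ _)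

theorem unitToPush_congr {Z W : Scheme.{u}} {a b : Z ⟶ W} (e : a = b) :
    ClSub.unitToPush b =
      ClSub.unitToPush a ≫ (Scheme.Modules.pushforwardCongr e).hom.app (Coh.structureModule Z) := by
  subst e
  exact Scheme.Modules.hom_ext _ _ fun V => ConcreteCategory.hom_ext _ _ fun (r : Γ(W, V)) =>
    ((pushforwardCongr_app (rfl : a = a) V (a.app V r)).trans (by simp; rfl)).symm

/-- The kernel of `O ⟶ t_* O` is the ideal of the image. -/
theorem nonempty_kernel_unitToPush {Z W : Scheme.{u}} (t : Z ⟶ W) [IsClosedImmersion t] :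
    Nonempty (kernel (ClSub.unitToPush t) ≅ ClSub.idealMod t.ker) := by
  haveI := ExtShLib.isIso_unitToPush_of_isIso t.toImage
  have h : ClSub.unitToPush t = ClSub.toSubscheme t.ker ≫
      ((Scheme.Modules.pushforward t.ker.subschemeι).map (ClSub.unitToPush t.toImage) ≫
        (Scheme.Modules.pushforwardComp t.toImage t.ker.subschemeι).hom.app _ ≫
        (Scheme.Modules.pushforwardCongr t.toImage_imageι).hom.app _) := by
    refine (unitToPush_congr t.toImage_imageι).trans ?_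
    refine (congrArg (· ≫ _) (unitToPush_comp t.toImage t.ker.subschemeι)).trans ?_
    simp only [Category.assoc]
  refine ⟨(eqToIso (by rw [h])) ≪≫ kernelCompMono (ClSub.toSubscheme t.ker) _⟩

instance (n : ℕ) (𝓘 : X.IdealSheafData) : IsClosedImmersion (inclusion (Lef.pow_succ_le 𝓘 n)) := by
  haveI : IsClosedImmersion (inclusion (Lef.pow_succ_le 𝓘 n) ≫ (𝓘 ^ (n + 1 + 1)).subschemeι) := by
    rw [inclusion_subschemeι]
    infer_instance
  exact IsClosedImmersion.of_comp _ (𝓘 ^ (n + 1 + 1)).subschemeι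

variable (𝓘 : X.IdealSheafData)

/-- The transition maps of the thickenings. -/
abbrev trans (n : ℕ) : (𝓘 ^ (n + 1)).subscheme ⟶ (𝓘 ^ (n + 1 + 1)).subscheme :=
  inclusion (Lef.pow_succ_le 𝓘 n)

theorem trans_sq (n : ℕ) : (trans 𝓘 n).ker * (trans 𝓘 n).ker = ⊥ := by
  rw [FComplLib.ker_inclusion, ← Groth.Agent.S3861.result, eq_bot_iff, ← pow_add]
  refine (Scheme.IdealSheafData.le_map_iff_comap_le).mp ?_
  refine le_of_le_of_eq (pow_le_pow_of_le_one bot_le le_top (by omega : n + 1 + 1 ≤ n + 1 + (n + 1))) ?_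
  rw [Scheme.IdealSheafData.map_bot, Scheme.IdealSheafData.ker_subschemeι]

theorem subsingleton_HH_trans (n q : ℕ)
    (h : Subsingleton (Coh.HH X (kernel (Lef.quotMap (Lef.pow_succ_le 𝓘 n))) q)) :
    Subsingleton (Coh.HH _ (ClSub.idealMod (trans 𝓘 n).ker) q) := by
  haveI : Coh.IsQCoh (ClSub.idealMod (trans 𝓘 n).ker) :=
    SweepSix.ConormalSpec.isQCoh_idealMod (trans 𝓘 n).ker
  obtain ⟨e⟩ := nonempty_kernel_unitToPush (trans 𝓘 n)
  let P := Scheme.Modules.pushforward (𝓘 ^ (n + 1 + 1)).subschemeι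
  let c := (Scheme.Modules.pushforwardComp (trans 𝓘 n) (𝓘 ^ (n + 1 + 1)).subschemeι).hom.app
      (Coh.structureModule (𝓘 ^ (n + 1)).subscheme) ≫
    (Scheme.Modules.pushforwardCongr (inclusion_subschemeι (Lef.pow_succ_le 𝓘 n))).hom.app _
  let i : P.obj (ClSub.idealMod (trans 𝓘 n).ker) ≅ kernel (Lef.quotMap (Lef.pow_succ_le 𝓘 n)) :=
    P.mapIso e.symm ≪≫ PreservesKernel.iso P (ClSub.unitToPush (trans 𝓘 n)) ≪≫
      (kernelCompMono (P.map (ClSub.unitToPush (trans 𝓘 n))) c).symm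
  haveI : Subsingleton (Coh.HH X ((Coh.push (𝓘 ^ (n + 1 + 1)).subschemeι).obj
      (ClSub.idealMod (trans 𝓘 n).ker)) q) := SerreVanLib.subsingleton_HH_of_iso i q h
  exact (Groth.Agent.S0012.result (𝓘 ^ (n + 1 + 1)).subschemeι
    (ClSub.idealMod (trans 𝓘 n).ker) q).some.injective.subsingleton

/-- Units lift along a square zero closed immersion with vanishing first cohomology of the ideal. -/
theorem exists_unit_lift {Z T : Scheme.{u}} (t : Z ⟶ T) [IsClosedImmersion t] (hI : t.ker * t.ker = ⊥)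
    (h1 : Subsingleton (Coh.HH T (ClSub.idealMod t.ker) 1)) (v : (Γ(Z, ⊤))ˣ) :
    ∃ w : (Γ(T, ⊤))ˣ, t.appTop w.1 = v.1 := by
  let v' : (Γ(t.ker.subscheme, ⊤))ˣ := Units.map (inv t.toImage).appTop.hom.toMonoidHom v
  have hmem : v' ∈ (PicH1Lib.delta₀ hI).ker := MonoidHom.mem_ker.mpr
    (Multiplicative.toAdd.injective (Subsingleton.elim (α := Coh.HH T (ClSub.idealMod t.ker) 1) _ _))
  rw [PicH1Lib.ker_delta₀] at hmem
  obtain ⟨w, hw⟩ := hmem
  refine ⟨w, ?_⟩
  have h2 : t.ker.subschemeι.appTop w.1 = (inv t.toImage).appTop v.1 := congrArg Units.val hw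
  have h3 : t.appTop = t.ker.subschemeι.appTop ≫ t.toImage.appTop := by
    rw [← Scheme.Hom.comp_appTop]
    exact congrArg Scheme.Hom.appTop t.toImage_imageι.symm
  rw [h3, CommRingCat.comp_apply, h2, ← CommRingCat.comp_apply, ← Scheme.Hom.comp_appTop,
    IsIso.hom_inv_id]
  simp

/-- A morphism along which units and invertible modules extend. -/
structure GoodStep {Z T : Scheme.{u}} (t : Z ⟶ T) : Prop where
  units : ∀ v : (Γ(Z, ⊤))ˣ, ∃ w : (Γ(T, ⊤))ˣ, t.appTop w.1 = v.1
  inj : ∀ L M : T.Modules, PicF.IsInvertible L → PicF.IsInvertible M →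
    Nonempty (pb t L ≅ pb t M) → Nonempty (L ≅ M)

theorem goodStep_trans (n : ℕ)
    (h : Subsingleton (Coh.HH X (kernel (Lef.quotMap (Lef.pow_succ_le 𝓘 n))) 1)) :
    GoodStep (trans 𝓘 n) where
  units := exists_unit_lift _ (trans_sq 𝓘 n) (subsingleton_HH_trans 𝓘 n 1 h)
  inj _ _ hL hM e := PicH1Lib.iso_of_pullback_iso _ (trans_sq 𝓘 n) (subsingleton_HH_trans 𝓘 n 1 h) hL hM e.some

theorem exists_pullback_iso_trans (n : ℕ)
    (h : Subsingleton (Coh.HH X (kernel (Lef.quotMap (Lef.pow_succ_le 𝓘 n))) 2))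
    {N : (𝓘 ^ (n + 1)).subscheme.Modules} (hN : PicF.IsInvertible N) :
    ∃ L : (𝓘 ^ (n + 1 + 1)).subscheme.Modules, PicF.IsInvertible L ∧ Nonempty (pb (trans 𝓘 n) L ≅ N) :=
  PicH1Lib.exists_pullback_iso _ (trans_sq 𝓘 n) (subsingleton_HH_trans 𝓘 n 2 h) hN

theorem GoodStep.of_iso {Z T Z' T' : Scheme.{u}} {t : Z ⟶ T} (h : GoodStep t) {t' : Z' ⟶ T'}
    (a : Z' ⟶ Z) (b : T' ⟶ T) [IsIso a] [IsIso b] (w : t' ≫ b = a ≫ t) : GoodStep t' where
  units v := by
    obtain ⟨x, hx⟩ := h.units (Units.map (inv a).appTop.hom.toMonoidHom v)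
    refine ⟨Units.map b.appTop.hom.toMonoidHom x, ?_⟩
    show t'.appTop (b.appTop x.1) = v.1
    rw [← CommRingCat.comp_apply, ← Scheme.Hom.comp_appTop, w, Scheme.Hom.comp_appTop, CommRingCat.comp_apply, hx]
    show a.appTop ((inv a).appTop v.1) = v.1
    rw [← CommRingCat.comp_apply, ← Scheme.Hom.comp_appTop, IsIso.hom_inv_id]
    simp
  inj L M hL hM e := by
    have hw : t ≫ inv b = inv a ≫ t' := by
      rw [IsIso.eq_inv_comp, ← Category.assoc, ← w, Category.assoc, IsIso.hom_inv_id, Category.comp_id]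
    refine PicPnLib.iso_of_pb_iso (inv b) (h.inj _ _ (AmpleDevLib.isInvertible_pb _ hL)
      (AmpleDevLib.isInvertible_pb _ hM) ⟨?_⟩).some
    exact (Scheme.Modules.pullbackComp t (inv b)).app L ≪≫ (Scheme.Modules.pullbackCongr hw).app L ≪≫
      ((Scheme.Modules.pullbackComp (inv a) t').app L).symm ≪≫
      (Scheme.Modules.pullback (inv a)).mapIso e.some ≪≫
      (Scheme.Modules.pullbackComp (inv a) t').app M ≪≫ (Scheme.Modules.pullbackCongr hw).symm.app M ≪≫
      ((Scheme.Modules.pullbackComp t (inv b)).app M).symm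

end LeffPicLib
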