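import Groth.Agent.LeffPicLib.Core
import Groth.Agent.LeffPicLib.Tower
import Groth.Agent.QuotSchLib.HilbQuot

/-!
# Triviality on a neighbourhood from triviality on a thickening
-/

set_option autoImplicit false
set_option linter.style.haveILetI false
universe u

open CategoryTheory CategoryTheory.Limits AlgebraicGeometry TopologicalSpace Opposite
open Scheme.IdealSheafData (inclusion inclusion_subschemeι)
open KFlatLib (pb)

noncomputable section

namespace LeffPicLib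

variable {X : Scheme.{u}} (𝓘 : X.IdealSheafData) (U : X.Opens) (hU : (𝓘.support : Set X) ⊆ (U : Set X))

theorem exists_inverse {L : X.Modules} (hL : PicF.IsInvertible L) :
    ∃ N : X.Modules, PicF.IsInvertible N ∧ Nonempty (CohB1.tensorMod L N ≅ Coh.structureModule X) := by
  obtain ⟨c, hc⟩ := PicH1Lib.exists_rel_of_isInvertible (PicH1Lib.isHomeomorph_id X) hL
  obtain ⟨N, hN⟩ := PicH1Lib.exists_module_rel (𝟙 X) (-c)
  have h := hc.tensor hN
  rw [add_neg_cancel] at h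
  exact ⟨N, hN.isInvertible, h.iso_structureModule⟩

theorem pow_comap (n : ℕ) : (𝓘 ^ (n + 1)).comap U.ι = (𝓘.comap U.ι) ^ (n + 1) :=
  FComplLib.comap_pow_succ U.ι 𝓘 n

include hU in
theorem range_thick_subset (n : ℕ) :
    Set.range (𝓘 ^ (n + 1)).subschemeι ⊆ Set.range U.ι := by
  rw [Scheme.IdealSheafData.range_subschemeι, Scheme.IdealSheafData.support_pow_succ, Scheme.Opens.range_ι]
  exact hU

/-- A thickening, as a closed subscheme of the neighbourhood. -/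
def toNhd (n : ℕ) : (𝓘 ^ (n + 1)).subscheme ⟶ U :=
  IsOpenImmersion.lift U.ι (𝓘 ^ (n + 1)).subschemeι (range_thick_subset 𝓘 U hU n)

theorem toNhd_ι (n : ℕ) : toNhd 𝓘 U hU n ≫ U.ι = (𝓘 ^ (n + 1)).subschemeι :=
  IsOpenImmersion.lift_fac _ _ _

/-- The thickenings in the neighbourhood are those in the whole space. -/
def fromNhd (n : ℕ) : ((𝓘.comap U.ι) ^ (n + 1)).subscheme ⟶ (𝓘 ^ (n + 1)).subscheme :=
  inclusion (pow_comap 𝓘 U n).le ≫ ((𝓘 ^ (n + 1)).comapIso U.ι).hom ≫ pullback.snd _ _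

theorem fromNhd_ι (n : ℕ) :
    fromNhd 𝓘 U n ≫ (𝓘 ^ (n + 1)).subschemeι = ((𝓘.comap U.ι) ^ (n + 1)).subschemeι ≫ U.ι := by
  rw [fromNhd, Category.assoc, Category.assoc, ← pullback.condition]
  rw [Scheme.IdealSheafData.comapIso_hom_fst_assoc, ← Category.assoc, inclusion_subschemeι]

include hU in
theorem isIso_fromNhd (n : ℕ) : IsIso (fromNhd 𝓘 U n) := by
  haveI : IsIso (inclusion (pow_comap 𝓘 U n).le) := ⟨inclusion (pow_comap 𝓘 U n).ge,
    by rw [Scheme.IdealSheafData.inclusion_comp, Scheme.IdealSheafData.inclusion_id],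
    by rw [Scheme.IdealSheafData.inclusion_comp, Scheme.IdealSheafData.inclusion_id]⟩
  haveI : IsIso (pullback.snd U.ι (𝓘 ^ (n + 1)).subschemeι) :=
    ⟨pullback.lift (toNhd 𝓘 U hU n) (𝟙 _) (by rw [toNhd_ι, Category.id_comp]), by
      refine pullback.hom_ext ?_ ?_
      · erw [Category.assoc, pullback.lift_fst, Category.id_comp]
        rw [← cancel_mono U.ι, Category.assoc]
        erw [toNhd_ι, ← pullback.condition]
      · erw [Category.assoc, pullback.lift_snd, Category.id_comp, Category.comp_id],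
      by erw [pullback.lift_snd]⟩
  rw [fromNhd]
  infer_instance

theorem trans_fromNhd (n : ℕ) :
    trans (𝓘.comap U.ι) n ≫ fromNhd 𝓘 U (n + 1) = fromNhd 𝓘 U n ≫ trans 𝓘 n := by
  rw [← cancel_mono (𝓘 ^ (n + 1 + 1)).subschemeι, Category.assoc, Category.assoc, fromNhd_ι,
    inclusion_subschemeι, fromNhd_ι, ← Category.assoc, inclusion_subschemeι]

include hU in
theorem goodStep_nhd (n : ℕ)
    (h : Subsingleton (Coh.HH X (kernel (Lef.quotMap (Lef.pow_succ_le 𝓘 n))) 1)) :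
    GoodStep (trans (𝓘.comap U.ι) n) :=
  haveI := isIso_fromNhd 𝓘 U hU n
  haveI := isIso_fromNhd 𝓘 U hU (n + 1)
  (goodStep_trans 𝓘 n h).of_iso (fromNhd 𝓘 U n) (fromNhd 𝓘 U (n + 1)) (trans_fromNhd 𝓘 U n)

variable {W : Scheme.{u}}

theorem quotMap_comp {I J K : W.IdealSheafData} (h₁ : I ≤ J) (h₂ : J ≤ K) :
    Lef.quotMap h₁ ≫ Lef.quotMap h₂ = Lef.quotMap (h₁.trans h₂) := by
  have key : ∀ {I J : W.IdealSheafData} (h : I ≤ J),
      ClSub.toSubscheme I ≫ Lef.quotMap h = ClSub.toSubscheme J := fun {I J} h => by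
    refine Eq.trans ?_ (unitToPush_congr (inclusion_subschemeι h)).symm
    rw [unitToPush_comp, Category.assoc, Category.assoc]
    rfl
  haveI : Epi (ClSub.toSubscheme I) := QuotSchLib.epi_unitToPush I.subschemeι
  rw [← cancel_epi (ClSub.toSubscheme I), reassoc_of% key h₁, key h₂, key (h₁.trans h₂)]

theorem pow_le_pow_ideal (𝓙 : W.IdealSheafData) {a b : ℕ} (h : a ≤ b) : 𝓙 ^ b ≤ 𝓙 ^ a :=
  pow_le_pow_of_le_one bot_le le_top h

theorem nonempty_pullback_triv {Y : Scheme.{u}} (g : Y ⟶ W) {L N : W.Modules}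
    (e : CohB1.tensorMod L N ≅ Coh.structureModule W) (a : pb g L ≅ Coh.structureModule Y) :
    Nonempty (pb g N ≅ Coh.structureModule Y) := by
  obtain ⟨e'⟩ := CohCmpLib.nonempty_pullback_inverse g e
  exact ⟨(HilbPolyLib.unitLeft _).symm ≪≫ HilbPolyLib.congrLeft a.symm _ ≪≫ e'⟩

/-- Compatible trivialisations of a module, starting from one on a thickening. -/
theorem exists_formal_triv (𝓙 : W.IdealSheafData) (n : ℕ)
    (hstep : ∀ m, n ≤ m → GoodStep (trans 𝓙 m)) {L : W.Modules} (hL : PicF.IsInvertible L)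
    (a : Nonempty (pb (𝓙 ^ (n + 1)).subschemeι L ≅ Coh.structureModule _)) :
    ∃ y : ∀ m, L ⟶ ClSub.quotMod (𝓙 ^ (m + 1)), Lef.IsFormalHom 𝓙 L y ∧
      Triv (𝓙 ^ (0 + 1)).subschemeι (y 0) := by
  have triv : ∀ k, Nonempty (pb (𝓙 ^ (n + k + 1)).subschemeι L ≅ Coh.structureModule _) := fun k => by
    induction k with
    | zero => exact a
    | succ k ih =>
      refine (hstep (n + k) (Nat.le_add_right n k)).inj _ _ (AmpleDevLib.isInvertible_pb _ hL)
        CurvLib.isInvertible_structureModule ⟨?_⟩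
      exact (Scheme.Modules.pullbackComp _ _).app L ≪≫
        (Scheme.Modules.pullbackCongr (inclusion_subschemeι (Lef.pow_succ_le 𝓙 (n + k)))).app L ≪≫
        ih.some ≪≫ (KFlatLib.pullUnitIso _).symm
  have base : ∃ y : L ⟶ ClSub.quotMod (𝓙 ^ (n + 0 + 1)), Triv (𝓙 ^ (n + 0 + 1)).subschemeι y :=
    exists_triv_of_iso _ hL (triv 0).some
  have next_ : ∀ k (y : {y : L ⟶ ClSub.quotMod (𝓙 ^ (n + k + 1)) // Triv (𝓙 ^ (n + k + 1)).subschemeι y}),
      ∃ y' : {y : L ⟶ ClSub.quotMod (𝓙 ^ (n + (k + 1) + 1)) // Triv (𝓙 ^ (n + (k + 1) + 1)).subschemeι y},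
        y'.1 ≫ Lef.quotMap (Lef.pow_succ_le 𝓙 (n + k)) = y.1 := fun k y => by
    obtain ⟨y', hy', he⟩ := exists_lift (Lef.pow_succ_le 𝓙 (n + k)) hL
      (hstep (n + k) (Nat.le_add_right n k)).units (triv (k + 1)).some y.2
    exact ⟨⟨y', hy'⟩, he⟩
  choose nx hnx using next_
  let σ : ∀ k, {y : L ⟶ ClSub.quotMod (𝓙 ^ (n + k + 1)) // Triv (𝓙 ^ (n + k + 1)).subschemeι y} :=
    fun k => Nat.rec ⟨base.choose, base.choose_spec⟩ (fun k y => nx k y) k
  have hσ : ∀ k, (σ (k + 1)).1 ≫ Lef.quotMap (Lef.pow_succ_le 𝓙 (n + k)) = (σ k).1 := fun k => hnx k (σ k)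
  refine ⟨fun m => (σ m).1 ≫ Lef.quotMap (pow_le_pow_ideal 𝓙 (by omega : m + 1 ≤ n + m + 1)), fun m => ?_,
    (σ 0).2.quotMap _⟩
  dsimp only
  rw [← hσ m, Category.assoc, Category.assoc, quotMap_comp, quotMap_comp]

/-- Lef and a tower of good steps detect trivial modules. -/
theorem nonempty_iso_of_thickening (𝓙 : W.IdealSheafData)
    (hD : ∀ D : W.Modules, FlatMod.IsFinLocFree D → Lef.HomToFormalBijective 𝓙 D) (n : ℕ)
    (hstep : ∀ m, n ≤ m → GoodStep (trans 𝓙 m)) {L : W.Modules} (hL : PicF.IsInvertible L)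
    (a : Nonempty (pb (𝓙 ^ (n + 1)).subschemeι L ≅ Coh.structureModule _)) :
    Nonempty (L ≅ Coh.structureModule W) := by
  obtain ⟨N, hN, ⟨e⟩⟩ := exists_inverse hL
  obtain ⟨yL, cL, tL⟩ := exists_formal_triv 𝓙 n hstep hL a
  obtain ⟨yN, cN, tN⟩ := exists_formal_triv 𝓙 n hstep hN (nonempty_pullback_triv _ e a.some)
  exact nonempty_iso_of_formal 𝓙 hD hL hN e yL cL tL yN cN tN

/-- The pullback to a thickening of an open neighbourhood detects isomorphism. -/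
theorem nonempty_iso_of_pullback_iso (h : Lef.LefCond X 𝓘) (n : ℕ)
    (hH : ∀ m : ℕ, n ≤ m → Subsingleton (Coh.HH X (kernel (Lef.quotMap (Lef.pow_succ_le 𝓘 m))) 1))
    (hU : (𝓘.support : Set X) ⊆ (U : Set X)) {L L' : (U : Scheme.{u}).Modules}
    (hL : PicF.IsInvertible L) (hL' : PicF.IsInvertible L')
    (e : Nonempty (pb ((𝓘.comap U.ι) ^ (n + 1)).subschemeι L ≅ pb ((𝓘.comap U.ι) ^ (n + 1)).subschemeι L')) :
    Nonempty (L ≅ L') := by
  obtain ⟨N, hN, ⟨eN⟩⟩ := exists_inverse hL'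
  obtain ⟨eN'⟩ := CohCmpLib.nonempty_pullback_inverse ((𝓘.comap U.ι) ^ (n + 1)).subschemeι eN
  obtain ⟨M⟩ := nonempty_iso_of_thickening (𝓘.comap U.ι) (h U hU) n
    (fun m hm => goodStep_nhd 𝓘 U hU m (hH m hm)) (HilbPolyLib.isInvertible_tensor hL hN)
    ⟨PicPnLib.pullTens _ L N ≪≫ HilbPolyLib.congrLeft e.some _ ≪≫ eN'⟩
  obtain ⟨i⟩ := PicPnLib.nonempty_cancel M (HilbPolyLib.swapIso N L' ≪≫ eN)
  exact ⟨i ≪≫ HilbPolyLib.unitLeft L'⟩

end LeffPicLib
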