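import Groth.Agent.LeffPicLib.Step
import Groth.Agent.HilbPolyLib.Twist
import Groth.Agent.Formal2VBLib.Dual
import Groth.Agent.AmpleDevLib.Devissage
import Groth.Agent.KFlatLib.PullTensor

/-!
# The Lefschetz condition detects trivial invertible modules
-/

set_option autoImplicit false
set_option linter.style.haveILetI false
universe u

open CategoryTheory CategoryTheory.Limits AlgebraicGeometry TopologicalSpace Opposite
open AmpleLib (GenAt GenOn shT)

noncomputable section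

namespace LeffPicLib

variable {U : Scheme.{u}} (𝓙 : U.IdealSheafData)

theorem isUnit_germ_of_comp {Z : Scheme.{u}} (j : Z ⟶ U) {W : U.Opens} {z : Z} (hz : j z ∈ W)
    (r : Γ(U, W)) (h : IsUnit (Z.presheaf.germ (j ⁻¹ᵁ W) z hz (j.app W r))) :
    IsUnit (U.presheaf.germ W (j z) hz r) := by
  rw [← Scheme.Hom.germ_stalkMap_apply] at h
  exact (isUnit_map_iff (j.stalkMap z).hom _).mp h

theorem genAt_map_iso {M N : U.Modules} (e : M ≅ N) {W : U.Opens} (s : Γ(M, W)) {x : U} (hx : x ∈ W)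
    (hs : GenAt M s hx) : GenAt N (e.hom.app W s) hx := by
  let ψ := ((DerSch.stalkFunctor U x).map e.hom).hom
  have hψ : Function.Bijective ψ :=
    ConcreteCategory.bijective_of_isIso ((DerSch.stalkFunctor U x).map e.hom)
  have key : ∀ c : U.presheaf.stalk x, ψ (c • M.presheaf.germ W x hx s) =
      c • N.presheaf.germ W x hx (e.hom.app W s) := fun c =>
    (ψ.map_smul c _).trans (congrArg (c • ·) (DerSch.stalkFunctor_map_germ x e.hom W hx s))
  exact Eq.mp (congrArg Function.Bijective (funext key)) (hψ.comp hs)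

/-- Sections that are units along the subscheme are units, given Lef for the structure module. -/
theorem isUnit_of_formal (hL : Lef.HomToFormalBijective 𝓙 (Coh.structureModule U)) (f : Γ(U, ⊤))
    (hf : ∀ x : U, x ∈ (𝓙.support : Set U) → IsUnit (U.presheaf.germ ⊤ x trivial f)) : IsUnit f := by
  have hu : ∀ n, IsUnit ((𝓙 ^ (n + 1)).subschemeι.appTop f) := fun n => by
    refine RingedSpace.isUnit_of_isUnit_germ (𝓙 ^ (n + 1)).subscheme.toRingedSpace ⊤ _ fun z _ => ?_
    have hx : (𝓙 ^ (n + 1)).subschemeι z ∈ (𝓙.support : Set U) := by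
      have : (𝓙 ^ (n + 1)).subschemeι z ∈ ((𝓙 ^ (n + 1)).support : Set U) :=
        (𝓙 ^ (n + 1)).range_subschemeι ▸ Set.mem_range_self z
      rwa [Scheme.IdealSheafData.support_pow_succ] at this
    have h := (hf _ hx).map ((𝓙 ^ (n + 1)).subschemeι.stalkMap z).hom
    exact (congrArg IsUnit (Scheme.Hom.germ_stalkMap_apply (𝓙 ^ (n + 1)).subschemeι ⊤ z trivial f)).mp h
  let iv : ∀ n, Γ((𝓙 ^ (n + 1)).subscheme, ⊤) := fun n => ↑((hu n).unit⁻¹)
  have hc : ∀ n, (Scheme.IdealSheafData.inclusion (Lef.pow_succ_le 𝓙 n)).appTop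
      (iv (n + 1)) = iv n := fun n => by
    apply (hu n).mul_left_cancel
    have e : (Scheme.IdealSheafData.inclusion (Lef.pow_succ_le 𝓙 n)).appTop
        ((𝓙 ^ (n + 1 + 1)).subschemeι.appTop f) = (𝓙 ^ (n + 1)).subschemeι.appTop f := by
      have := congrArg Scheme.Hom.appTop (Scheme.IdealSheafData.inclusion_subschemeι (Lef.pow_succ_le 𝓙 n))
      rw [Scheme.Hom.comp_appTop] at this
      exact congr($this f)
    conv_lhs => rw [← e]
    simp only [iv]
    rw [← map_mul, IsUnit.mul_val_inv, map_one, IsUnit.mul_val_inv]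
  obtain ⟨φ, hφ⟩ := hL.2 (fun n => QCohLib.unitHom (ClSub.quotMod (𝓙 ^ (n + 1))) (iv n))
    (fun n => (QCohLib.app_unitHom_app _ _).trans
      (congrArg (QCohLib.unitHom _) ((Groth.Agent.LefConnLib.quotMap_app_top _ _).trans (hc n))))
  let g : Γ(U, ⊤) := φ.app ⊤ (1 : Γ(U, ⊤))
  have hg : ∀ n, (𝓙 ^ (n + 1)).subschemeι.appTop g = iv n :=
    fun n => (congrArg (fun ψ => ψ.app ⊤ (1 : Γ(U, ⊤))) (hφ n)).trans (Groth.Agent.LefConnLib.unitHom_app_one _ _)
  refine isUnit_iff_exists_inv.mpr ⟨g, sub_eq_zero.mp (Groth.Agent.LefConnLib.eq_zero_of_forall 𝓙 hL _ fun n => ?_)⟩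
  rw [map_sub, map_mul, map_one, hg]
  simp only [iv]
  rw [IsUnit.mul_val_inv, sub_self]

/-- The tensor product of two morphisms. -/
def tensorMap {L N A B : U.Modules} (φ : L ⟶ A) (χ : N ⟶ B) :
    CohB1.tensorMod L N ⟶ CohB1.tensorMod A B :=
  ((DCoh.tensorBi (X := U)).map φ).app N ≫ ((DCoh.tensorBi (X := U)).obj A).map χ

theorem tensor_shT {L N A B : U.Modules} (φ : L ⟶ A) (χ : N ⟶ B) {W : U.Opens} (t : Γ(L, W)) (t' : Γ(N, W)) :
    (tensorMap φ χ).app W (shT t t') = shT (φ.app W t) (χ.app W t') :=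
  (congrArg ((((DCoh.tensorBi (X := U)).obj A).map χ).app W)
    (KFlatLib.tensorBi_map₁_shTm φ N t t')).trans (KFlatLib.tensorBi_map₂_shTm A χ _ t')

theorem germ_key {L N : U.Modules} (φ : L ⟶ Coh.structureModule U) (χ : N ⟶ Coh.structureModule U)
    (e : CohB1.tensorMod L N ≅ Coh.structureModule U)
    (u : CohB1.tensorMod (Coh.structureModule U) (Coh.structureModule U) ≅ Coh.structureModule U)
    {x : U} (W : U.Opens) (hx : x ∈ W) (t : Γ(L, W)) (t' : Γ(N, W)) (ht : GenAt L t hx) (ht' : GenAt N t' hx) :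
    ∃ c d : U.presheaf.stalk x, IsUnit c ∧ IsUnit d ∧
      U.presheaf.germ W x hx (φ.app W t) * U.presheaf.germ W x hx (χ.app W t') * c =
        d * U.presheaf.germ ⊤ x trivial (one' (e.inv ≫ tensorMap φ χ ≫ u.hom)) := by
  let one : Γ(Coh.structureModule U, W) := (1 : Γ(U, W))
  let a : Γ(U, W) := φ.app W t
  let b : Γ(U, W) := χ.app W t'
  let p : Γ(U, W) := e.hom.app W (shT t t')
  let q : Γ(U, W) := u.hom.app W (shT one one)
  have h1 : GenAt (Coh.structureModule U) one hx := (AmpleLib.one_genOn W).genAt hx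
  have hp : IsUnit (U.presheaf.germ W x hx p) :=
    (genAt_unit_iff p hx).mp (genAt_map_iso e _ hx (ht.tensor ht'))
  have hq : IsUnit (U.presheaf.germ W x hx q) :=
    (genAt_unit_iff q hx).mp (genAt_map_iso u _ hx (h1.tensor h1))
  refine ⟨_, _, hq, hp, ?_⟩
  set σ := tensorMap φ χ with hσdef
  set G := e.inv ≫ σ ≫ u.hom with hGdef
  have hσ : σ.app W (shT t t') = (a * b) • shT one one :=
    (tensor_shT φ χ t t').trans (((congrArg₂ shT (mul_one a).symm (mul_one b).symm)).trans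
      (AmpleLib.shT_smul a b one one))
  have hG : G.app W (p : Γ(Coh.structureModule U, W)) = (a * b) • (q : Γ(Coh.structureModule U, W)) := by
    have hcomp : e.hom ≫ G = σ ≫ u.hom := by simp only [G, Iso.hom_inv_id_assoc]
    refine (congr($(hcomp).app W (shT t t'))).trans ?_
    exact (congrArg (u.hom.app W) hσ).trans (QCohLib.app_smul u.hom W (a * b) _)
  have hG' : G.app W (p : Γ(Coh.structureModule U, W)) = p * U.presheaf.map (homOfLE le_top).op (one' G) :=
    (congr($(eq_unitHom G).app W (p : Γ(Coh.structureModule U, W)))).trans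
      (QCohLib.unitHom_app (Coh.structureModule U) (one' G) W p)
  have h : U.presheaf.germ W x hx (a * b * q) =
      U.presheaf.germ W x hx (p * U.presheaf.map (homOfLE le_top).op (one' G)) :=
    congrArg (U.presheaf.germ W x hx) (hG.symm.trans hG')
  rw [map_mul, map_mul, map_mul, TopCat.Presheaf.germ_res_apply] at h
  exact h

set_option maxHeartbeats 1000000 in
/-- Modules with formal trivialisations are trivial. -/
theorem nonempty_iso_of_formal
    (hD : ∀ D : U.Modules, FlatMod.IsFinLocFree D → Lef.HomToFormalBijective 𝓙 D)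
    {L N : U.Modules} (hL : PicF.IsInvertible L) (hN : PicF.IsInvertible N)
    (e : CohB1.tensorMod L N ≅ Coh.structureModule U)
    (yL : ∀ n, L ⟶ ClSub.quotMod (𝓙 ^ (n + 1))) (cL : Lef.IsFormalHom 𝓙 L yL)
    (tL : Triv (𝓙 ^ (0 + 1)).subschemeι (yL 0))
    (yN : ∀ n, N ⟶ ClSub.quotMod (𝓙 ^ (n + 1))) (cN : Lef.IsFormalHom 𝓙 N yN)
    (tN : Triv (𝓙 ^ (0 + 1)).subschemeι (yN 0)) :
    Nonempty (L ≅ Coh.structureModule U) := by
  obtain ⟨φ, hφ⟩ := (hD L (AmpleDevLib.isFinLocFree_of_isInvertible hL)).2 yL cL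
  obtain ⟨χ, hχ⟩ := (hD N (AmpleDevLib.isFinLocFree_of_isInvertible hN)).2 yN cN
  let O := Coh.structureModule U
  let u : CohB1.tensorMod O O ≅ O := HilbPolyLib.unitLeft O
  let σ : CohB1.tensorMod L N ⟶ CohB1.tensorMod O O := tensorMap φ χ
  let G : O ⟶ O := e.inv ≫ σ ≫ u.hom
  let f : Γ(U, ⊤) := one' G
  have key : ∀ (x : U) (W : U.Opens) (hx : x ∈ W) (t : Γ(L, W)) (t' : Γ(N, W)),
      GenAt L t hx → GenAt N t' hx → ∃ c d : U.presheaf.stalk x, IsUnit c ∧ IsUnit d ∧
        U.presheaf.germ W x hx (φ.app W t) * U.presheaf.germ W x hx (χ.app W t') * c =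
          d * U.presheaf.germ ⊤ x trivial f := fun x W hx t t' => germ_key φ χ e u W hx t t'
  have hY : ∀ {M : U.Modules} (hM : PicF.IsInvertible M) (ψ : M ⟶ O)
      (y : M ⟶ ClSub.quotMod (𝓙 ^ (0 + 1))), ψ ≫ ClSub.toSubscheme (𝓙 ^ (0 + 1)) = y →
      Triv (𝓙 ^ (0 + 1)).subschemeι y → ∀ x ∈ (𝓙.support : Set U), ∀ (W : U.Opens) (hx : x ∈ W)
      (t : Γ(M, W)), GenOn M t → IsUnit (U.presheaf.germ W x hx (ψ.app W t)) := by
    intro M hM ψ y hy ty x hxY W hx t ht
    obtain ⟨z, rfl⟩ : x ∈ Set.range (𝓙 ^ (0 + 1)).subschemeι := by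
      rw [Scheme.IdealSheafData.range_subschemeι, Scheme.IdealSheafData.support_pow_succ]
      exact hxY
    refine isUnit_germ_of_comp _ hx _ ?_
    have h := ty.isUnit_gen _ ht hx
    rw [← hy] at h
    exact h
  have hf : IsUnit f := isUnit_of_formal 𝓙 (hD O (Formal2VBLib.isFinLocFree_structureModule _)) f fun x hx => by
    obtain ⟨W, t, hxW, ht⟩ := TwistLib.exists_genOn hL x
    obtain ⟨W', t', hxW', ht'⟩ := TwistLib.exists_genOn hN x
    have hV : x ∈ W ⊓ W' := ⟨hxW, hxW'⟩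
    obtain ⟨c, d, hc, hd, h⟩ := key x (W ⊓ W') hV _ _ ((ht.res inf_le_left).genAt hV) ((ht'.res inf_le_right).genAt hV)
    have h1 := hY hL φ (yL 0) (hφ 0) tL x hx (W ⊓ W') hV _ (ht.res inf_le_left)
    have h2 := hY hN χ (yN 0) (hχ 0) tN x hx (W ⊓ W') hV _ (ht'.res inf_le_right)
    exact isUnit_of_mul_isUnit_right (h ▸ (h1.mul h2).mul hc)
  haveI : IsIso φ := TwistLib.isIso_of_gen φ fun x => by
    obtain ⟨W, t, hxW, ht⟩ := TwistLib.exists_genOn hL x
    obtain ⟨W', t', hxW', ht'⟩ := TwistLib.exists_genOn hN x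
    have hV : x ∈ W ⊓ W' := ⟨hxW, hxW'⟩
    refine ⟨W ⊓ W', hV, AmpleLib.res L inf_le_left t, (ht.res inf_le_left).genAt hV, ?_⟩
    obtain ⟨c, d, hc, hd, h⟩ := key x (W ⊓ W') hV _ _ ((ht.res inf_le_left).genAt hV) ((ht'.res inf_le_right).genAt hV)
    refine (genAt_unit_iff _ hV).mpr ?_
    exact isUnit_of_mul_isUnit_left (isUnit_of_mul_isUnit_left (h.symm ▸ hd.mul (hf.map _)))
  exact ⟨asIso φ⟩

end LeffPicLib
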