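import Groth.Agent.LeffPicLib.Nhd

/-!
# Triviality on a neighbourhood, stated through a map from the thickening
-/

set_option autoImplicit false
set_option linter.style.haveILetI false
universe u

open CategoryTheory CategoryTheory.Limits AlgebraicGeometry TopologicalSpace Opposite
open KFlatLib (pb)

noncomputable section

namespace LeffPicLib

variable {X : Scheme.{u}} (𝓘 : X.IdealSheafData)

theorem nonempty_trivial_of_pullback (h : Lef.LefCond X 𝓘) (n : ℕ)
    (hH : ∀ m : ℕ, n ≤ m → Subsingleton (Coh.HH X (kernel (Lef.quotMap (Lef.pow_succ_le 𝓘 m))) 1))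
    (U : X.Opens) (hU : (𝓘.support : Set X) ⊆ (U : Set X)) (g : (𝓘 ^ (n + 1)).subscheme ⟶ U)
    (hg : g ≫ U.ι = (𝓘 ^ (n + 1)).subschemeι) {L : (U : Scheme.{u}).Modules} (hL : PicF.IsInvertible L)
    (e : Nonempty (pb g L ≅ Coh.structureModule _)) :
    Nonempty (L ≅ Coh.structureModule (U : Scheme.{u})) := by
  have hw : fromNhd 𝓘 U n ≫ g = ((𝓘.comap U.ι) ^ (n + 1)).subschemeι := by
    rw [← cancel_mono U.ι, Category.assoc, hg, fromNhd_ι]
  refine nonempty_iso_of_thickening (𝓘.comap U.ι) (h U hU) n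
    (fun m hm => goodStep_nhd 𝓘 U hU m (hH m hm)) hL ⟨?_⟩
  exact (Scheme.Modules.pullbackCongr hw.symm).app L ≪≫
    ((Scheme.Modules.pullbackComp (fromNhd 𝓘 U n) g).app L).symm ≪≫
    (Scheme.Modules.pullback (fromNhd 𝓘 U n)).mapIso e.some ≪≫ KFlatLib.pullUnitIso _

end LeffPicLib
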