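import Groth.Prelude.Def_LefX
import Groth.Agent.LeffPicLib.Nhd
import Groth.Agent.SeesawLib.Ranks
import Groth.Agent.CohCmpLib.LineBundle

/-!
# Algebraisation of invertible modules on a thickening, given Leff
-/

set_option autoImplicit false
set_option linter.style.haveILetI false
universe u

open CategoryTheory CategoryTheory.Limits AlgebraicGeometry TopologicalSpace Opposite
open Scheme.IdealSheafData (inclusion inclusion_subschemeι inclusion_comp)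
open KFlatLib (pb)

noncomputable section

namespace LeffPicLib

variable {X : Scheme.{u}}

/-- A locally free module with invertible pullback is invertible near the image. -/
theorem exists_invertible_nhd {Y : Scheme.{u}} (g : Y ⟶ X) {E : X.Modules} (hE : FlatMod.IsFinLocFree E)
    (h : PicF.IsInvertible (pb g E)) :
    ∃ V : X.Opens, Set.range g ⊆ (V : Set X) ∧ PicF.IsInvertible (pb V.ι E) := by
  refine ⟨⟨SeesawLib.RankSet E 1, SeesawLib.isOpen_rankSet E 1⟩, ?_, ?_⟩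
  · rintro _ ⟨y, rfl⟩
    exact (SeesawLib.mem_rankSet_pullback_iff hE g y 1).1
      (SeesawLib.rankSet_of_rank ((CohCmpLib.invertible_iff_rank_one _).1 h) y)
  · set V : X.Opens := ⟨SeesawLib.RankSet E 1, SeesawLib.isOpen_rankSet E 1⟩
    refine (CohCmpLib.invertible_iff_rank_one _).2 fun v => ?_
    have hv : v ∈ SeesawLib.RankSet (pb V.ι E) 1 := (SeesawLib.mem_rankSet_pullback_iff hE V.ι v 1).2 v.2
    have hfree : FlatMod.IsFinLocFree (pb V.ι E) := fun w => by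
      obtain ⟨O, n, hw, ⟨φ⟩⟩ := hE (V.ι w)
      exact ⟨V.ι ⁻¹ᵁ O, n, hw, ⟨(KFlatLib.restrictPullIso V.ι O).app E ≪≫
        (Scheme.Modules.pullback (V.ι ∣_ O)).mapIso φ ≪≫ KFlatLib.pullFreeIso (V.ι ∣_ O) n⟩⟩
    obtain ⟨O, n, hvO, ⟨φ⟩⟩ := hfree v
    have hn : (⟨v, hvO⟩ : O.toScheme) ∈ SeesawLib.RankSet (pb O.ι (pb V.ι E)) n :=
      SeesawLib.rankSet_of_iso (φ.symm ≪≫ (Scheme.Modules.restrictFunctorIsoPullback O.ι).app _)
        (SeesawLib.rankSet_freeMod _ _ _)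
    obtain rfl := SeesawLib.rankSet_unique ((SeesawLib.mem_rankSet_pullback_iff hfree O.ι _ n).1 hn) hv
    exact ⟨O, hvO, ⟨φ⟩⟩

variable (𝓘 : X.IdealSheafData)

/-- Pullbacks along a commuting square. -/
def squareIso {Y₀ Y₁ Z₀ Z₁ : Scheme.{u}} {a : Y₀ ⟶ Y₁} {i : Y₁ ⟶ Z₁} {i' : Y₀ ⟶ Z₀} {b : Z₀ ⟶ Z₁}
    (h : a ≫ i = i' ≫ b) {G₁ : Z₁.Modules} {G₀ : Z₀.Modules} (φ : pb b G₁ ≅ G₀) :
    pb a (pb i G₁) ≅ pb i' G₀ :=
  (Scheme.Modules.pullbackComp a i).app _ ≪≫ (Scheme.Modules.pullbackCongr h).app _ ≪≫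
    ((Scheme.Modules.pullbackComp i' b).app _).symm ≪≫ (Scheme.Modules.pullback i').mapIso φ

/-- Descending along a composite. -/
def downIso {Y Z₀ Z₁ : Scheme.{u}} {i : Y ⟶ Z₀} {b : Z₀ ⟶ Z₁} {j : Y ⟶ Z₁} (h : i ≫ b = j)
    {G₁ : Z₁.Modules} {G₀ : Z₀.Modules} {N : Y.Modules} (φ : pb b G₁ ≅ G₀) (ψ : pb i G₀ ≅ N) :
    pb j G₁ ≅ N :=
  (Scheme.Modules.pullbackCongr h.symm).app _ ≪≫ ((Scheme.Modules.pullbackComp i b).app _).symm ≪≫
    (Scheme.Modules.pullback i).mapIso φ ≪≫ ψ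

/-- A system of modules on the thickenings. -/
def mkSys (F : ∀ m, (𝓘 ^ (m + 1)).subscheme.Modules) (e : ∀ m, pb (trans 𝓘 m) (F (m + 1)) ≅ F m) :
    FSch.ModSys (FSch.completionAlong X 𝓘) where
  F := F
  e := e

theorem mkSys_F (F : ∀ m, (𝓘 ^ (m + 1)).subscheme.Modules) (e : ∀ m, pb (trans 𝓘 m) (F (m + 1)) ≅ F m)
    (m : ℕ) : (mkSys 𝓘 F e).F m = F m := rfl

/-- Every invertible module on a thickening is the top of a system of invertible modules. -/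
theorem exists_modSys (n : ℕ)
    (h2 : ∀ m, n ≤ m → Subsingleton (Coh.HH X (kernel (Lef.quotMap (Lef.pow_succ_le 𝓘 m))) 2))
    {N : (𝓘 ^ (n + 1)).subscheme.Modules} (hN : PicF.IsInvertible N) :
    ∃ 𝔐 : FSch.ModSys (FSch.completionAlong X 𝓘), (∀ m, PicF.IsInvertible (𝔐.F m)) ∧
      Nonempty (𝔐.F n ≅ N) := by
  have next_ : ∀ k (G : {G : (𝓘 ^ (n + k + 1)).subscheme.Modules // PicF.IsInvertible G}),
      ∃ G' : {G : (𝓘 ^ (n + (k + 1) + 1)).subscheme.Modules // PicF.IsInvertible G},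
        Nonempty (pb (trans 𝓘 (n + k)) G'.1 ≅ G.1) := fun k G => by
    obtain ⟨G', hG', e⟩ := exists_pullback_iso_trans 𝓘 (n + k) (h2 _ (Nat.le_add_right n k)) G.2
    exact ⟨⟨G', hG'⟩, e⟩
  choose nx hnx using next_
  obtain ⟨G, hG0, hG⟩ : ∃ G : ∀ k, {G : (𝓘 ^ (n + k + 1)).subscheme.Modules // PicF.IsInvertible G},
      G 0 = ⟨N, hN⟩ ∧ ∀ k, Nonempty (pb (trans 𝓘 (n + k)) (G (k + 1)).1 ≅ (G k).1) :=
    ⟨fun k => Nat.rec ⟨N, hN⟩ (fun k G => nx k G) k, rfl, fun k => hnx k _⟩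
  let i : ∀ m, (𝓘 ^ (m + 1)).subscheme ⟶ (𝓘 ^ (n + m + 1)).subscheme := fun m =>
    inclusion (pow_le_pow_ideal 𝓘 (by omega : m + 1 ≤ n + m + 1))
  have hi : ∀ m, trans 𝓘 m ≫ i (m + 1) = i m ≫ trans 𝓘 (n + m) := fun m =>
    (inclusion_comp _ _).trans (inclusion_comp _ _).symm
  refine ⟨mkSys 𝓘 (fun m => pb (i m) (G m).1) (fun m => squareIso (hi m) (hG m).some),
    fun m => AmpleDevLib.isInvertible_pb _ (G m).2, ?_⟩
  have hdown : ∀ (k : ℕ) (h : n + 1 ≤ n + k + 1),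
      Nonempty (pb (inclusion (pow_le_pow_ideal 𝓘 h)) (G k).1 ≅ N) := fun k => by
    induction k with
    | zero =>
      intro h
      refine ⟨(Scheme.Modules.pullbackCongr (Scheme.IdealSheafData.inclusion_id _)).app _ ≪≫
        (Scheme.Modules.pullbackId _).app _ ≪≫ eqToIso ?_⟩
      rw [hG0]; rfl
    | succ k ih =>
      intro h
      obtain ⟨e⟩ := ih (by omega)
      have hc : inclusion (pow_le_pow_ideal 𝓘 (by omega : n + 1 ≤ n + k + 1)) ≫ trans 𝓘 (n + k) =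
          inclusion (pow_le_pow_ideal 𝓘 h) := inclusion_comp _ _
      exact ⟨downIso hc (hG k).some e⟩
  exact hdown n (by omega)

theorem isFinLocFree_of_invertible {L : X.Modules} (hL : PicF.IsInvertible L) : FlatMod.IsFinLocFree L :=
  AmpleDevLib.isFinLocFree_of_isInvertible hL

/-- Every invertible module on a thickening comes from a neighbourhood. -/
theorem exists_nhd_extension (h : LefX.LeffCond X 𝓘) (n : ℕ)
    (h2 : ∀ m, n ≤ m → Subsingleton (Coh.HH X (kernel (Lef.quotMap (Lef.pow_succ_le 𝓘 m))) 2))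
    {N : (𝓘 ^ (n + 1)).subscheme.Modules} (hN : PicF.IsInvertible N) :
    ∃ (U : X.Opens) (L : (U : Scheme.{u}).Modules) (g : (𝓘 ^ (n + 1)).subscheme ⟶ U),
      (𝓘.support : Set X) ⊆ (U : Set X) ∧ g ≫ U.ι = (𝓘 ^ (n + 1)).subschemeι ∧
      PicF.IsInvertible L ∧ Nonempty (pb g L ≅ N) := by
  obtain ⟨𝔐, h𝔐, ⟨e⟩⟩ := exists_modSys 𝓘 n h2 hN
  obtain ⟨U₀, E, hU₀, hE, ⟨φ⟩⟩ := h.2 𝔐 fun m => AmpleDevLib.isFinLocFree_of_isInvertible (h𝔐 m)
  let φn : pb (𝓘 ^ (n + 1)).subschemeι ((Scheme.Modules.pushforward U₀.ι).obj E) ≅ 𝔐.F n :=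
    { hom := (φ.hom : FSch.ModSys.Hom _ _).app n
      inv := (φ.inv : FSch.ModSys.Hom _ _).app n
      hom_inv_id := congrFun (congrArg FSch.ModSys.Hom.app φ.hom_inv_id) n
      inv_hom_id := congrFun (congrArg FSch.ModSys.Hom.app φ.inv_hom_id) n }
  let ℓ := toNhd 𝓘 U₀ hU₀ n
  let a : pb ℓ E ≅ N := (Scheme.Modules.pullback ℓ).mapIso
      (((Scheme.Modules.restrictFunctorAdjCounitIso U₀.ι).app E).symm ≪≫
        (Scheme.Modules.restrictFunctorIsoPullback U₀.ι).app _) ≪≫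
    (Scheme.Modules.pullbackComp ℓ U₀.ι).app _ ≪≫
    (Scheme.Modules.pullbackCongr (toNhd_ι 𝓘 U₀ hU₀ n)).app _ ≪≫ φn ≪≫ e
  obtain ⟨V, hV, hVE⟩ := exists_invertible_nhd ℓ hE (HilbPolyLib.isInvertible_of_iso a.symm hN)
  have hVY : (𝓘.support : Set X) ⊆ (U₀.ι ''ᵁ V : Set X) := by
    intro x hx
    obtain ⟨z, rfl⟩ : x ∈ Set.range (𝓘 ^ (n + 1)).subschemeι := by
      rw [Scheme.IdealSheafData.range_subschemeι, Scheme.IdealSheafData.support_pow_succ]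
      exact hx
    exact ⟨ℓ z, hV ⟨z, rfl⟩, congrArg (fun f : _ ⟶ X => f z) (toNhd_ι 𝓘 U₀ hU₀ n)⟩
  let σ := (V.ι ≫ U₀.ι).isoOpensRange
  have hrange : (V.ι ≫ U₀.ι).opensRange = U₀.ι ''ᵁ V := by
    rw [Scheme.Hom.opensRange_comp, Scheme.Opens.opensRange_ι]
  refine ⟨(V.ι ≫ U₀.ι).opensRange, pb σ.inv (pb V.ι E), toNhd 𝓘 _ (hrange ▸ hVY) n, hrange ▸ hVY,
    toNhd_ι 𝓘 _ _ n, AmpleDevLib.isInvertible_pb _ hVE, ⟨?_⟩⟩
  have hc : toNhd 𝓘 (V.ι ≫ U₀.ι).opensRange (hrange ▸ hVY) n ≫ σ.inv ≫ V.ι = ℓ := by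
    rw [← cancel_mono U₀.ι, Category.assoc, Category.assoc, Scheme.Hom.isoOpensRange_inv_comp, toNhd_ι,
      toNhd_ι]
  exact (Scheme.Modules.pullback _).mapIso ((Scheme.Modules.pullbackComp σ.inv V.ι).app E) ≪≫
    (Scheme.Modules.pullbackComp _ _).app E ≪≫ (Scheme.Modules.pullbackCongr hc).app E ≪≫ a

end LeffPicLib
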