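import Groth.Agent.LeffPicLib.Para
import Groth.Agent.LeffPicLib.Inj
import Groth.Agent.LeffPicLib.Surj

/-!
# The Picard groups of a space and of a thickening under Leff
-/

set_option autoImplicit false
set_option linter.style.haveILetI false
universe u

open CategoryTheory CategoryTheory.Limits AlgebraicGeometry TopologicalSpace Opposite
open KFlatLib (pb)

noncomputable section

namespace LeffPicLib

theorem picBijective_thickening {X : Scheme.{u}} [IsLocallyNoetherian X] (𝓘 : X.IdealSheafData) (n : ℕ)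
    (h1 : LefX.LeffCond X 𝓘)
    (h2 : ∀ m : ℕ, n ≤ m → ∀ i : ℕ, (i = 1 ∨ i = 2) →
      Subsingleton (Coh.HH X (kernel (Lef.quotMap (Lef.pow_succ_le 𝓘 m))) i))
    (h3 : ∀ U : X.Opens, (𝓘.support : Set X) ⊆ (U : Set X) → ∀ x : X, x ∉ U →
      ParaF.IsParafactorialLocalRing (X.presheaf.stalk x)) :
    Formal2.PicPullbackInjective (𝓘 ^ (n + 1)).subschemeι ∧
      Formal2.PicPullbackSurjective (𝓘 ^ (n + 1)).subschemeι := by
  refine ⟨fun L hL e => ?_, fun N hN => ?_⟩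
  · have hT : (𝓘.support : Set X) ⊆ ((⊤ : X.Opens) : Set X) := fun x _ => trivial
    haveI : IsIso (⊤ : X.Opens).ι := (X.topIso).isIso_hom
    obtain ⟨i⟩ := nonempty_trivial_of_pullback 𝓘 h1.1 n (fun m hm => h2 m hm 1 (Or.inl rfl)) ⊤ hT
      (toNhd 𝓘 ⊤ hT n) (toNhd_ι 𝓘 ⊤ hT n) (AmpleDevLib.isInvertible_pb (⊤ : X.Opens).ι hL)
      ⟨(Scheme.Modules.pullbackComp _ _).app L ≪≫
        (Scheme.Modules.pullbackCongr (toNhd_ι 𝓘 ⊤ hT n)).app L ≪≫ e.some⟩
    exact PicPnLib.iso_of_pb_iso (⊤ : X.Opens).ι (i ≪≫ (KFlatLib.pullUnitIso _).symm)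
  · obtain ⟨U, L, g, hU, hg, hL, ⟨eL⟩⟩ := exists_nhd_extension 𝓘 h1 n (fun m hm => h2 m hm 2 (Or.inr rfl)) hN
    obtain ⟨L', hL', ⟨e'⟩⟩ := (picBijective_of_parafactorial U (h3 U hU)).2 L hL
    exact ⟨L', hL', ⟨(Scheme.Modules.pullbackCongr hg.symm).app L' ≪≫
      ((Scheme.Modules.pullbackComp g U.ι).app L').symm ≪≫ (Scheme.Modules.pullback g).mapIso e' ≪≫ eL⟩⟩

end LeffPicLib
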