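import Groth.Agent.S2831
import Groth.Agent.LeffPicLib.Nhd

/-!
# Restriction of invertible modules to an open with parafactorial complement
-/

set_option autoImplicit false
set_option linter.style.haveILetI false
universe u

open CategoryTheory CategoryTheory.Limits AlgebraicGeometry TopologicalSpace Opposite
open KFlatLib (pb)

noncomputable section

namespace LeffPicLib

variable {X : Scheme.{u}}

theorem nonempty_iso_of_invRestrictEquiv {A B : Scheme.{u}} (j : A ⟶ B) [IsOpenImmersion j]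
    (h : ParaF.InvRestrictEquiv j) {L L' : B.Modules} (hL : PicF.IsInvertible L) (hL' : PicF.IsInvertible L')
    (e : pb j L ≅ pb j L') : Nonempty (L ≅ L') := by
  let R := Scheme.Modules.restrictFunctor j
  let e' : R.obj L ≅ R.obj L' := (Scheme.Modules.restrictFunctorIsoPullback j).app L ≪≫ e ≪≫
    ((Scheme.Modules.restrictFunctorIsoPullback j).app L').symm
  obtain ⟨φ, hφ⟩ := (h.1 L L' hL hL').2 e'.hom
  obtain ⟨ψ, hψ⟩ := (h.1 L' L hL' hL).2 e'.inv
  dsimp only at hφ hψ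
  refine ⟨⟨φ, ψ, (h.1 L L hL hL).1 ?_, (h.1 L' L' hL' hL').1 ?_⟩⟩
  · show R.map (φ ≫ ψ) = R.map (𝟙 L)
    rw [R.map_comp, hφ, hψ, e'.hom_inv_id, R.map_id]
  · show R.map (ψ ≫ φ) = R.map (𝟙 L')
    rw [R.map_comp, hφ, hψ, e'.inv_hom_id, R.map_id]

theorem picBijective_of_parafactorial [IsLocallyNoetherian X] (U : X.Opens)
    (h : ∀ x : X, x ∉ U → ParaF.IsParafactorialLocalRing (X.presheaf.stalk x)) :
    Formal2.PicPullbackInjective U.ι ∧ Formal2.PicPullbackSurjective U.ι := by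
  let Y : Closeds X := ⟨(U : Set X)ᶜ, U.2.isClosed_compl⟩
  have hY := (Groth.Agent.S2831.result X Y).2 fun y hy => h y hy
  have hj := hY ⊤
  have hU : U = ⊤ ⊓ Y.compl := by
    ext x
    simp [Y]
  let j := X.homOfLE (inf_le_left : (⊤ : X.Opens) ⊓ Y.compl ≤ ⊤)
  let κ := (X.isoOfEq hU).hom
  let τ := (⊤ : X.Opens).ι
  have hw : κ ≫ j ≫ τ = U.ι := by
    simp [κ, j, τ]
  haveI : IsIso τ := (X.topIso).isIso_hom
  refine ⟨fun L hL e => ?_, fun L₀ hL₀ => ?_⟩
  · obtain ⟨e1⟩ := PicPnLib.iso_of_pb_iso κ (A := pb j (pb τ L)) (B := pb j (Coh.structureModule _))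
      ((Scheme.Modules.pullback κ).mapIso ((Scheme.Modules.pullbackComp j τ).app L) ≪≫
        (Scheme.Modules.pullbackComp κ (j ≫ τ)).app L ≪≫ (Scheme.Modules.pullbackCongr hw).app L ≪≫
        e.some ≪≫ (KFlatLib.pullUnitIso κ).symm ≪≫
        (Scheme.Modules.pullback κ).mapIso (KFlatLib.pullUnitIso j).symm)
    obtain ⟨e2⟩ := nonempty_iso_of_invRestrictEquiv j hj (AmpleDevLib.isInvertible_pb _ hL)
      CurvLib.isInvertible_structureModule e1
    exact PicPnLib.iso_of_pb_iso τ (e2 ≪≫ (KFlatLib.pullUnitIso τ).symm)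
  · obtain ⟨L1, hL1, ⟨e1⟩⟩ := hj.2 (pb (inv κ) L₀) (AmpleDevLib.isInvertible_pb _ hL₀)
    refine ⟨pb (inv τ) L1, AmpleDevLib.isInvertible_pb _ hL1, ⟨?_⟩⟩
    have hw' : (κ ≫ j ≫ τ) ≫ inv τ = κ ≫ j := by simp
    exact (Scheme.Modules.pullbackCongr hw.symm).app _ ≪≫
      (Scheme.Modules.pullbackComp _ (inv τ)).app L1 ≪≫ (Scheme.Modules.pullbackCongr hw').app L1 ≪≫
      ((Scheme.Modules.pullbackComp κ j).app L1).symm ≪≫
      (Scheme.Modules.pullback κ).mapIso (((Scheme.Modules.restrictFunctorIsoPullback j).app L1).symm ≪≫ e1) ≪≫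
      (Scheme.Modules.pullbackComp κ (inv κ)).app L₀ ≪≫
      (Scheme.Modules.pullbackCongr (IsIso.hom_inv_id κ)).app L₀ ≪≫ (Scheme.Modules.pullbackId _).app L₀

end LeffPicLib
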