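import Groth.Agent.LeffPicLib.Triv

/-!
# Compatible trivialisations on nested closed subschemes
-/

set_option autoImplicit false
set_option linter.style.haveILetI false
universe u

open CategoryTheory CategoryTheory.Limits AlgebraicGeometry TopologicalSpace Opposite
open Scheme.IdealSheafData (inclusion inclusion_subschemeι)

noncomputable section

namespace LeffPicLib

variable {U : Scheme.{u}}

theorem pushforwardCongr_app {Z : Scheme.{u}} {f g : Z ⟶ U} (e : f = g) (W : U.Opens)
    (x : Γ(Z, f ⁻¹ᵁ W)) :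
    ((Scheme.Modules.pushforwardCongr e).hom.app (Coh.structureModule Z)).app W x =
      (Z.presheaf.map (eqToHom (congrArg (fun φ : Z ⟶ U => φ ⁻¹ᵁ W) e.symm)).op x : Γ(Z, g ⁻¹ᵁ W)) := by
  subst e
  rfl

variable {I J : U.IdealSheafData} (h : I ≤ J)

theorem incl_preimage (W : U.Opens) :
    J.subschemeι ⁻¹ᵁ W = inclusion h ⁻¹ᵁ (I.subschemeι ⁻¹ᵁ W) :=
  (congrArg (fun φ : J.subscheme ⟶ U => φ ⁻¹ᵁ W) (inclusion_subschemeι h)).symm

theorem quotMap_app (W : U.Opens) (x : Γ(I.subscheme, I.subschemeι ⁻¹ᵁ W)) :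
    (Lef.quotMap h).app W x =
      (J.subscheme.presheaf.map (eqToHom (incl_preimage h W)).op
        ((inclusion h).app (I.subschemeι ⁻¹ᵁ W) x) : Γ(J.subscheme, J.subschemeι ⁻¹ᵁ W)) :=
  pushforwardCongr_app (inclusion_subschemeι h) W ((inclusion h).app (I.subschemeι ⁻¹ᵁ W) x)

theorem val_quotMap {L : U.Modules} (y : L ⟶ ClSub.quotMod I) (W : U.Opens) (t : Γ(L, W)) :
    val J.subschemeι (y ≫ Lef.quotMap h) W t =
      J.subscheme.presheaf.map (eqToHom (incl_preimage h W)).op
        ((inclusion h).app (I.subschemeι ⁻¹ᵁ W) (val I.subschemeι y W t)) :=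
  quotMap_app h W (val I.subschemeι y W t)

theorem Triv.quotMap {L : U.Modules} {y : L ⟶ ClSub.quotMod I} (hy : Triv I.subschemeι y) :
    Triv J.subschemeι (y ≫ Lef.quotMap h) := fun z => by
  obtain ⟨W, hz, t, ht⟩ := hy (inclusion h z)
  have hz' : J.subschemeι z ∈ W := by
    have e := incl_preimage h W
    exact (SetLike.ext_iff.mp e z).mpr hz
  refine ⟨W, hz', t, ?_⟩
  rw [val_quotMap]
  erw [TopCat.Presheaf.germ_res_apply, ← Scheme.Hom.germ_stalkMap_apply]
  exact ht.map _

theorem mulPush_quotMap (v : Γ(I.subscheme, ⊤)) :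
    LeffPicLib.mulPush I.subschemeι v ≫ Lef.quotMap h =
      Lef.quotMap h ≫ LeffPicLib.mulPush J.subschemeι ((inclusion h).appTop v) := by
  refine Scheme.Modules.hom_ext _ _ fun W => ConcreteCategory.hom_ext _ _
    fun (x : Γ(I.subscheme, I.subschemeι ⁻¹ᵁ W)) => ?_
  change (Lef.quotMap h).app W ((LeffPicLib.mulPush I.subschemeι v).app W x) =
    (LeffPicLib.mulPush J.subschemeι ((inclusion h).appTop v)).app W ((Lef.quotMap h).app W x)
  rw [quotMap_app h W x]
  refine (congrArg ((Lef.quotMap h).app W) (QCohLib.unitHom_app (Coh.structureModule I.subscheme) v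
    (I.subschemeι ⁻¹ᵁ W) x)).trans ?_
  refine Eq.trans ?_ (QCohLib.unitHom_app (Coh.structureModule J.subscheme) _ (J.subschemeι ⁻¹ᵁ W) _).symm
  refine (quotMap_app h W (x * I.subscheme.presheaf.map (homOfLE le_top).op v)).trans ?_
  refine ((congrArg _ (map_mul ((inclusion h).app (I.subschemeι ⁻¹ᵁ W)).hom x _)).trans
    (map_mul (J.subscheme.presheaf.map (eqToHom (incl_preimage h W)).op).hom _ _)).trans ?_
  refine congrArg (_ * ·) ?_
  rw [show ((inclusion h).appTop v) = (inclusion h).app ⊤ v from rfl]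
  have hn := congr($((inclusion h).naturality (homOfLE (le_top : I.subschemeι ⁻¹ᵁ W ≤ ⊤)).op) v)
  refine (congrArg _ hn).trans ?_
  exact QCohLib.map_map' (Coh.structureModule J.subscheme) _ _ _

/-- A trivialisation on the smaller subscheme lifts, if units lift and the module is trivial on the
larger one. -/
theorem exists_lift {L : U.Modules} (hL : PicF.IsInvertible L)
    (hu : ∀ v : (Γ(J.subscheme, ⊤))ˣ, ∃ w : (Γ(I.subscheme, ⊤))ˣ, (inclusion h).appTop w.1 = v.1)
    (a : KFlatLib.pb I.subschemeι L ≅ Coh.structureModule I.subscheme)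
    {y : L ⟶ ClSub.quotMod J} (hy : Triv J.subschemeι y) :
    ∃ y' : L ⟶ ClSub.quotMod I, Triv I.subschemeι y' ∧ y' ≫ Lef.quotMap h = y := by
  obtain ⟨y₁, h₁⟩ := exists_triv_of_iso I.subschemeι hL a
  obtain ⟨v, hv⟩ := (h₁.quotMap h).exists_unit J.subschemeι hL hy
  obtain ⟨w, hw⟩ := hu v
  refine ⟨y₁ ≫ LeffPicLib.mulPush I.subschemeι w.1, h₁.mulPush I.subschemeι w, ?_⟩
  rw [Category.assoc, mulPush_quotMap, hw, ← Category.assoc]
  exact hv.symm

end LeffPicLib
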