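import Groth.Prelude.Def_Lef
import Groth.Agent.LefConnLib.Basic
import Groth.Agent.CohCmpLib.UnitFibre
import Groth.Agent.MeroLib.RegSec
import Groth.Agent.TwistLib.PullGen

/-!
# Trivialisations of invertible modules on closed subschemes, as morphisms to the direct image
-/

set_option autoImplicit false
set_option linter.style.haveILetI false
set_option linter.unusedSectionVars false
universe u

open CategoryTheory CategoryTheory.Limits AlgebraicGeometry TopologicalSpace Opposite
open AmpleLib (GenAt GenOn)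
open KFlatLib (pb puSec)

noncomputable section

namespace LeffPicLib

variable {U Z : Scheme.{u}}

/-- Being a generator of the structure module at a point is being a unit there. -/
theorem genAt_unit_iff {W : Z.Opens} (a : Γ(Z, W)) {z : Z} (hz : z ∈ W) :
    GenAt (Coh.structureModule Z) (a : Γ(Coh.structureModule Z, W)) hz ↔
      IsUnit (Z.presheaf.germ W z hz a) := by
  have h1 : GenAt (Coh.structureModule Z) ((1 : Γ(Z, W)) : Γ(Coh.structureModule Z, W)) hz :=
    (AmpleLib.one_genOn W).genAt hz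
  have e : (a : Γ(Coh.structureModule Z, W)) = a • ((1 : Γ(Z, W)) : Γ(Coh.structureModule Z, W)) :=
    (mul_one a).symm
  refine (iff_of_eq (congrArg (fun s => GenAt (Coh.structureModule Z) s hz) e)).trans ?_
  exact (AmpleLib.genAt_smul_iff a _ hz h1).trans (Scheme.mem_basicOpen Z a z hz)

variable (j : Z ⟶ U)

/-- The values of a morphism to a direct image of the structure module. -/
def val {L : U.Modules} (y : L ⟶ (Scheme.Modules.pushforward j).obj (Coh.structureModule Z))
    (W : U.Opens) (t : Γ(L, W)) : Γ(Z, j ⁻¹ᵁ W) := y.app W t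

theorem val_smul {L : U.Modules} (y : L ⟶ (Scheme.Modules.pushforward j).obj (Coh.structureModule Z))
    (W : U.Opens) (r : Γ(U, W)) (t : Γ(L, W)) : val j y W (r • t) = j.app W r * val j y W t :=
  QCohLib.app_smul y W r t

theorem val_res {L : U.Modules} (y : L ⟶ (Scheme.Modules.pushforward j).obj (Coh.structureModule Z))
    {V W : U.Opens} (h : V ≤ W) (t : Γ(L, W)) :
    val j y V (AmpleLib.res L h t) = Z.presheaf.map (homOfLE (j.preimage_mono h)).op (val j y W t) :=
  QCohLib.app_map y (homOfLE h) t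

/-- The morphism trivialises its source along `j`. -/
def Triv {L : U.Modules} (y : L ⟶ (Scheme.Modules.pushforward j).obj (Coh.structureModule Z)) : Prop :=
  ∀ z : Z, ∃ (W : U.Opens) (hz : j z ∈ W) (t : Γ(L, W)),
    IsUnit (Z.presheaf.germ (j ⁻¹ᵁ W) z hz (val j y W t))

theorem Triv.isUnit_gen {L : U.Modules} {y : L ⟶ (Scheme.Modules.pushforward j).obj (Coh.structureModule Z)}
    (hy : Triv j y) {W : U.Opens} {e : Γ(L, W)} (he : GenOn L e) {z : Z} (hz : j z ∈ W) :
    IsUnit (Z.presheaf.germ (j ⁻¹ᵁ W) z hz (val j y W e)) := by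
  obtain ⟨W', hz', t, ht⟩ := hy z
  have hV : j z ∈ W ⊓ W' := ⟨hz, hz'⟩
  obtain ⟨r, hr⟩ := (he (W ⊓ W') inf_le_left).2 (AmpleLib.res L inf_le_right t)
  dsimp only at hr
  have h := congrArg (fun s => Z.presheaf.germ (j ⁻¹ᵁ (W ⊓ W')) z hV (val j y (W ⊓ W') s)) hr
  dsimp only at h
  rw [val_smul, val_res, val_res, map_mul] at h
  erw [TopCat.Presheaf.germ_res_apply, TopCat.Presheaf.germ_res_apply] at h
  rw [← h] at ht
  exact isUnit_of_mul_isUnit_right ht

/-- The adjoint morphism. -/
def adj {L : U.Modules} (y : L ⟶ (Scheme.Modules.pushforward j).obj (Coh.structureModule Z)) :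
    pb j L ⟶ Coh.structureModule Z :=
  ((Scheme.Modules.pullbackPushforwardAdjunction j).homEquiv _ _).symm y

theorem unit_adj {L : U.Modules} (y : L ⟶ (Scheme.Modules.pushforward j).obj (Coh.structureModule Z)) :
    (Scheme.Modules.pullbackPushforwardAdjunction j).unit.app L ≫
      (Scheme.Modules.pushforward j).map (adj j y) = y := by
  have h := ((Scheme.Modules.pullbackPushforwardAdjunction j).homEquiv L (Coh.structureModule Z)).apply_symm_apply y
  rw [Adjunction.homEquiv_unit] at h
  exact h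

theorem adj_puSec {L : U.Modules} (y : L ⟶ (Scheme.Modules.pushforward j).obj (Coh.structureModule Z))
    {W : U.Opens} (t : Γ(L, W)) : (adj j y).app (j ⁻¹ᵁ W) (puSec j t) = val j y W t :=
  congr($(unit_adj j y).app W t)

theorem Triv.isIso_adj {L : U.Modules} (hL : PicF.IsInvertible L)
    {y : L ⟶ (Scheme.Modules.pushforward j).obj (Coh.structureModule Z)} (hy : Triv j y) : IsIso (adj j y) := by
  refine TwistLib.isIso_of_gen _ fun z => ?_
  obtain ⟨W, e, hW, he⟩ := TwistLib.exists_genOn hL (j z)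
  refine ⟨j ⁻¹ᵁ W, hW, puSec j e, TwistLib.GenAt.puSec j (he.genAt hW), ?_⟩
  rw [adj_puSec]
  exact (genAt_unit_iff _ _).mpr (hy.isUnit_gen j he hW)

/-- A trivialisation of the pullback gives a trivialising morphism. -/
theorem exists_triv_of_iso {L : U.Modules} (hL : PicF.IsInvertible L) (a : pb j L ≅ Coh.structureModule Z) :
    ∃ y : L ⟶ (Scheme.Modules.pushforward j).obj (Coh.structureModule Z), Triv j y := by
  refine ⟨((Scheme.Modules.pullbackPushforwardAdjunction j).homEquiv _ _) a.hom, fun z => ?_⟩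
  obtain ⟨W, e, hW, he⟩ := TwistLib.exists_genOn hL (j z)
  refine ⟨W, hW, e, (genAt_unit_iff _ (show z ∈ j ⁻¹ᵁ W from hW)).mp ?_⟩
  rw [← adj_puSec, adj, Equiv.symm_apply_apply]
  exact (MeroLib.genOn_iso a.hom (σ := puSec j e)
    (TwistLib.genOn_of_genAt fun x hx => TwistLib.GenAt.puSec j (he.genAt hx))).genAt hW

/-- The value at one of an endomorphism of the structure module. -/
def one' (θ : Coh.structureModule Z ⟶ Coh.structureModule Z) : Γ(Z, ⊤) :=
  θ.app ⊤ ((1 : Γ(Z, ⊤)) : Γ(Coh.structureModule Z, ⊤))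

/-- An endomorphism of the structure module is multiplication by its value at one. -/
theorem eq_unitHom (θ : Coh.structureModule Z ⟶ Coh.structureModule Z) :
    θ = QCohLib.unitHom (Coh.structureModule Z) (one' θ) := by
  refine Scheme.Modules.hom_ext _ _ fun V => ConcreteCategory.hom_ext _ _ fun (r : Γ(Z, V)) => ?_
  refine Eq.trans ?_ (QCohLib.unitHom_app (Coh.structureModule Z) (one' θ) V r).symm
  have h1 : (r : Γ(Coh.structureModule Z, V)) = r • (Coh.structureModule Z).presheaf.map
      (homOfLE (le_top : V ≤ ⊤)).op ((1 : Γ(Z, ⊤)) : Γ(Coh.structureModule Z, ⊤)) := by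
    refine Eq.trans ?_ (congrArg (r • ·) (map_one (Z.presheaf.map (homOfLE (le_top : V ≤ ⊤)).op).hom).symm)
    exact (mul_one r).symm
  refine ((congrArg (θ.app V) h1).trans (QCohLib.app_smul θ V r _)).trans ?_
  exact congrArg (r • ·) (QCohLib.app_map θ (homOfLE (le_top : V ≤ ⊤)) _)

theorem isUnit_app_one (θ : Coh.structureModule Z ⟶ Coh.structureModule Z) [IsIso θ] :
    IsUnit (one' θ) := by
  refine isUnit_iff_exists_inv.mpr ⟨one' (inv θ), ?_⟩
  have h : one' (inv θ ≫ θ) = (1 : Γ(Z, ⊤)) := by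
    rw [IsIso.inv_hom_id]
    rfl
  refine Eq.trans ?_ h
  have h2 := congrArg (fun ψ : Coh.structureModule Z ⟶ Coh.structureModule Z =>
    ψ.app ⊤ ((one' (inv θ) : Γ(Z, ⊤)) : Γ(Coh.structureModule Z, ⊤))) (eq_unitHom θ)
  refine Eq.trans ?_ h2.symm
  refine Eq.trans ?_ (QCohLib.unitHom_app (Coh.structureModule Z) (one' θ) ⊤ _).symm
  refine (mul_comm _ _).trans ?_
  refine congrArg (one' (inv θ) * ·) ?_
  change one' θ = (Z.presheaf.map (𝟙 (op ⊤))) _
  rw [CategoryTheory.Functor.map_id]
  rfl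

/-- Multiplication by a section on a direct image. -/
def mulPush (v : Γ(Z, ⊤)) : (Scheme.Modules.pushforward j).obj (Coh.structureModule Z) ⟶
    (Scheme.Modules.pushforward j).obj (Coh.structureModule Z) :=
  (Scheme.Modules.pushforward j).map (QCohLib.unitHom (Coh.structureModule Z) v)

theorem val_mulPush {L : U.Modules} (y : L ⟶ (Scheme.Modules.pushforward j).obj (Coh.structureModule Z))
    (v : Γ(Z, ⊤)) (W : U.Opens) (t : Γ(L, W)) :
    val j (y ≫ mulPush j v) W t =
      val j y W t * Z.presheaf.map (homOfLE (le_top : j ⁻¹ᵁ W ≤ ⊤)).op v :=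
  QCohLib.unitHom_app (Coh.structureModule Z) v (j ⁻¹ᵁ W) (val j y W t)

theorem Triv.mulPush {L : U.Modules} {y : L ⟶ (Scheme.Modules.pushforward j).obj (Coh.structureModule Z)}
    (hy : Triv j y) (v : (Γ(Z, ⊤))ˣ) : Triv j (y ≫ LeffPicLib.mulPush j v) := fun z => by
  obtain ⟨W, hz, t, ht⟩ := hy z
  refine ⟨W, hz, t, ?_⟩
  rw [val_mulPush, map_mul]
  exact ht.mul ((v.isUnit.map _).map _)

/-- Two trivialisations differ by a unit. -/
theorem Triv.exists_unit {L : U.Modules} (hL : PicF.IsInvertible L)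
    {y y' : L ⟶ (Scheme.Modules.pushforward j).obj (Coh.structureModule Z)} (hy : Triv j y) (hy' : Triv j y') :
    ∃ v : (Γ(Z, ⊤))ˣ, y' = y ≫ LeffPicLib.mulPush j v := by
  haveI := hy.isIso_adj j hL
  haveI := hy'.isIso_adj j hL
  set θ := inv (adj j y) ≫ adj j y' with hθ
  have hu : IsUnit (one' θ) := by
    exact isUnit_app_one θ
  refine ⟨hu.unit, ?_⟩
  rw [LeffPicLib.mulPush, IsUnit.unit_spec, ← eq_unitHom, hθ]
  refine Eq.trans ?_ (congrArg (· ≫ _) (unit_adj j y))
  refine (unit_adj j y').symm.trans ?_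
  rw [Category.assoc, ← Functor.map_comp, IsIso.hom_inv_id_assoc]

end LeffPicLib
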